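import Groth.Agent.Lib.FunField.Ext
import Mathlib.FieldTheory.IsAlgClosed.AlgebraicClosure
import Mathlib.FieldTheory.Finite.Basic

/-! # Places of the constant field closure fixed by Frobenius -/

set_option autoImplicit false
set_option linter.style.haveILetI false

namespace Groth.Agent.FrobPlace28

open FunFld WithZero Polynomial FunField
open scoped Multiplicative

variable {k K kb Kb : Type*} [Field k] [Field K] [Algebra k K] [Field kb] [Algebra k kb]
  [Field Kb] [Algebra K Kb] [Algebra kb Kb]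

/-- An element fixed by the `q`-th power map lies in the field with `q` elements. -/
theorem mem_range_of_pow_card_eq [Finite k] {r : kb} (hr : r ^ Nat.card k = r) :
    ∃ a : k, algebraMap k kb a = r := by
  classical
  haveI := Fintype.ofFinite k
  have hq : 1 < Fintype.card k := Fintype.one_lt_card
  have hdeg := FiniteField.X_pow_card_sub_X_natDegree_eq k hq
  have hmon : (X ^ Fintype.card k - X : k[X]).Monic :=
    monic_X_pow_sub (by rw [degree_X]; exact_mod_cast hq)
  have hprod := prod_multiset_X_sub_C_of_monic_of_roots_card_eq hmon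
    (by rw [FiniteField.roots_X_pow_card_sub_X, hdeg]; rfl)
  rw [FiniteField.roots_X_pow_card_sub_X] at hprod
  have h0 := congrArg (eval₂ (algebraMap k kb) r) hprod
  rw [eval₂_multiset_prod, Multiset.map_map, eval₂_sub, eval₂_X_pow, eval₂_X, ← Nat.card_eq_fintype_card, hr,
    sub_self, Multiset.prod_eq_zero_iff, Multiset.mem_map] at h0
  obtain ⟨a, -, ha⟩ := h0
  refine ⟨a, ?_⟩
  simp only [Function.comp_apply, eval₂_sub, eval₂_X, eval₂_C, sub_eq_zero] at ha
  exact ha.symm

theorem exists_under_closure [Algebra.IsAlgebraic k kb] (h : FF k K)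
    (hc : ∀ c : k, algebraMap K Kb (algebraMap k K c) = algebraMap kb Kb (algebraMap k kb c))
    (hgen : Algebra.adjoin K (Set.range (algebraMap kb Kb)) = ⊤) (Q : Place kb Kb) :
    ∃ P : Place k K, ∀ a : K, Q.1 (algebraMap K Kb a) ≤ 1 ↔ P.1 a ≤ 1 := by
  have hV : ¬ IsField (Q.O.comap (algebraMap K Kb)) := by
    intro hF
    have hall : ∀ a : K, Q.1 (algebraMap K Kb a) ≤ 1 := by
      intro a
      rcases (Q.O.comap (algebraMap K Kb)).mem_or_inv_mem a with h1 | h1
      · exact h1
      · rcases eq_or_ne a 0 with rfl | ha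
        · simp
        · obtain ⟨b, hb⟩ := hF.mul_inv_cancel (a := (⟨a⁻¹, h1⟩ : Q.O.comap (algebraMap K Kb)))
            (fun e => inv_ne_zero ha (congrArg Subtype.val e))
          have : a⁻¹ * (b : K) = 1 := congrArg Subtype.val hb
          have hba : (b : K) = a := by
            rw [← inv_inv a, inv_eq_of_mul_eq_one_right this]
          exact hba ▸ b.2
    let A : Subalgebra K Kb :=
      { Q.O.toSubring.toSubsemiring with algebraMap_mem' := fun a => hall a }
    have hle : (⊤ : Subalgebra K Kb) ≤ A := by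
      rw [← hgen, Algebra.adjoin_le_iff]
      rintro _ ⟨c, rfl⟩
      exact Q.2.1 c
    obtain ⟨t, ht0, ht⟩ := exists_uniformizer Q
    have h2 : Q.1 t⁻¹ ≤ 1 := hle (Algebra.mem_top (x := t⁻¹))
    rw [map_inv₀, ht, ← exp_neg, ← exp_zero, exp_le_exp] at h2
    norm_num at h2
  obtain ⟨P, hP⟩ := h.exists_place_of_valuationSubring (Q.O.comap (algebraMap K Kb))
    (fun c => by
      show Q.1 (algebraMap K Kb (algebraMap k K c)) ≤ 1
      rw [hc]; exact Q.2.1 _) hV
  exact ⟨P, fun a => by rw [← mem_O_iff P, hP]; rfl⟩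

theorem val_lt_one_iff_of_le_iff {P : Place k K} {Q : Place kb Kb}
    (hPQ : ∀ a : K, Q.1 (algebraMap K Kb a) ≤ 1 ↔ P.1 a ≤ 1) (a : K) :
    Q.1 (algebraMap K Kb a) < 1 ↔ P.1 a < 1 := by
  rcases eq_or_ne a 0 with rfl | ha
  · simp
  have h1 := hPQ a⁻¹
  rw [map_inv₀, map_inv₀, map_inv₀,
    inv_le_one₀ (zero_lt_iff.2 ((Valuation.ne_zero_iff _).2 (by simpa using ha))),
    inv_le_one₀ (zero_lt_iff.2 ((Valuation.ne_zero_iff _).2 ha))] at h1
  rw [← not_le, ← not_le, h1]

/-- If the place below has degree one, a combination of constants over `k` is in `Q` iff all coefficients are. -/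
theorem sum_lt_one_iff {P : Place k K} {Q : Place kb Kb}
    (hc : ∀ c : k, algebraMap K Kb (algebraMap k K c) = algebraMap kb Kb (algebraMap k kb c))
    (hPQ : ∀ a : K, Q.1 (algebraMap K Kb a) ≤ 1 ↔ P.1 a ≤ 1)
    (hres : ∀ a : K, P.1 a ≤ 1 → ∃ c : k, P.1 (a - algebraMap k K c) < 1)
    {ι : Type*} {b : ι → kb} (hb : LinearIndependent k b) (s : Finset ι) (x : ι → K) :
    Q.1 (∑ i ∈ s, algebraMap K Kb (x i) * algebraMap kb Kb (b i)) < 1 ↔ ∀ i ∈ s, P.1 (x i) < 1 := by
  have hsmall : ∀ y : ι → K, (∀ i ∈ s, P.1 (y i) < 1) →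
      Q.1 (∑ i ∈ s, algebraMap K Kb (y i) * algebraMap kb Kb (b i)) < 1 := by
    intro y hy
    refine Valuation.map_sum_lt _ one_ne_zero fun i hi => ?_
    rw [map_mul]
    exact lt_of_le_of_lt (mul_le_of_le_one_right' (Q.2.1 _)) ((val_lt_one_iff_of_le_iff hPQ _).2 (hy i hi))
  refine ⟨fun hlt => ?_, hsmall x⟩
  by_contra hnot
  push Not at hnot
  obtain ⟨i0, hi0, hge⟩ := hnot
  obtain ⟨j, hj, hmax⟩ := s.exists_max_image (fun i => P.1 (x i)) ⟨i0, hi0⟩
  have hj1 : 1 ≤ P.1 (x j) := hge.trans (hmax i0 hi0)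
  have hj0 : P.1 (x j) ≠ 0 := (zero_lt_one.trans_le hj1).ne'
  have hxj : x j ≠ 0 := fun e => hj0 (by rw [e, map_zero])
  have hy : ∀ i, ∃ c : k, i ∈ s → P.1 (x i / x j - algebraMap k K c) < 1 := by
    intro i
    by_cases hi : i ∈ s
    · obtain ⟨c, hc⟩ := hres (x i / x j) (by
        rw [map_div₀, div_le_one₀ (zero_lt_iff.2 hj0)]; exact hmax i hi)
      exact ⟨c, fun _ => hc⟩
    · exact ⟨0, fun h => absurd h hi⟩
  choose c hcc using hy
  set γ := ∑ i ∈ s, c i • b i with hγ
  have hγ0 : γ ≠ 0 := by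
    intro e
    have h1 := linearIndependent_iff'.1 hb s c e j hj
    have h2 := hcc j hj
    rw [h1, map_zero, sub_zero, div_self hxj, map_one] at h2
    exact lt_irrefl _ h2
  have hQγ : Q.1 (algebraMap kb Kb γ) = 1 := val_const Q hγ0
  have hsplit : (∑ i ∈ s, algebraMap K Kb (x i) * algebraMap kb Kb (b i)) =
      algebraMap K Kb (x j) * (algebraMap kb Kb γ +
        ∑ i ∈ s, algebraMap K Kb (x i / x j - algebraMap k K (c i)) * algebraMap kb Kb (b i)) := by
    rw [hγ, map_sum, ← Finset.sum_add_distrib, Finset.mul_sum]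
    refine Finset.sum_congr rfl fun i _ => ?_
    rw [Algebra.smul_def, map_mul, ← hc, ← add_mul, ← map_add, add_sub_cancel, ← mul_assoc, ← map_mul,
      mul_div_cancel₀ _ hxj]
  rw [hsplit, map_mul, Valuation.map_add_eq_of_lt_left _ (by
    rw [hQγ]; exact hsmall _ fun i hi => hcc i hi), hQγ, mul_one] at hlt
  exact not_le.2 ((val_lt_one_iff_of_le_iff hPQ _).1 hlt) hj1

theorem exists_finsupp_eq_sum
    (hc : ∀ c : k, algebraMap K Kb (algebraMap k K c) = algebraMap kb Kb (algebraMap k kb c))
    (hgen : Algebra.adjoin K (Set.range (algebraMap kb Kb)) = ⊤)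
    {ι : Type*} (b : Module.Basis ι k kb) (z : Kb) :
    ∃ (s : Finset ι) (x : ι → K), z = ∑ i ∈ s, algebraMap K Kb (x i) * algebraMap kb Kb (b i) := by
  have hz : z ∈ Submodule.span K (Set.range fun i => algebraMap kb Kb (b i)) := by
    have hclosed : z ∈ Submodule.span K (Set.range (algebraMap kb Kb)) := by
      have h1 : z ∈ Subalgebra.toSubmodule (Algebra.adjoin K (Set.range (algebraMap kb Kb))) := by
        rw [hgen]; trivial
      rw [Algebra.adjoin_eq_span] at h1
      refine Submodule.span_mono ?_ h1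
      exact le_of_eq_of_le rfl ((Submonoid.closure_le (S := MonoidHom.mrange (algebraMap kb Kb).toMonoidHom)).2
        (fun a ha => ha))
    refine Submodule.span_le.2 ?_ hclosed
    rintro _ ⟨a, rfl⟩
    rw [← b.linearCombination_repr a, Finsupp.linearCombination_apply, Finsupp.sum, map_sum]
    refine Submodule.sum_mem _ fun i _ => ?_
    rw [Algebra.smul_def, map_mul, ← hc, ← Algebra.smul_def]
    exact Submodule.smul_mem _ _ (Submodule.subset_span ⟨i, rfl⟩)
  obtain ⟨c, hc⟩ := Finsupp.mem_span_range_iff_exists_finsupp.1 hz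
  refine ⟨c.support, c, ?_⟩
  rw [← hc]
  simp only [Finsupp.sum, Algebra.smul_def]

theorem frobenius_fixed_iff [Finite k] [IsAlgClosure k kb] (h : FF k K)
    (hc : ∀ c : k, algebraMap K Kb (algebraMap k K c) = algebraMap kb Kb (algebraMap k kb c))
    (hgen : Algebra.adjoin K (Set.range (algebraMap kb Kb)) = ⊤)
    (F : Kb →+* Kb) (hF1 : ∀ c : kb, F (algebraMap kb Kb c) = algebraMap kb Kb c)
    (hF2 : ∀ x : K, F (algebraMap K Kb x) = algebraMap K Kb x ^ Nat.card k)
    (Q : Place kb Kb) :
    (∀ z : Kb, Q.1 (F z) < 1 ↔ Q.1 z < 1) ↔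
      ∃ P : Place k K, (∀ x : K, Q.1 (algebraMap K Kb x) ≤ 1 ↔ P.1 x ≤ 1) ∧ P.deg = 1 := by
  haveI : IsAlgClosed kb := IsAlgClosure.isAlgClosed k
  haveI : Algebra.IsAlgebraic k kb := IsAlgClosure.isAlgebraic
  set q := Nat.card k with hqdef
  have hq : q ≠ 0 := Nat.card_pos.ne'
  constructor
  · intro hfix
    obtain ⟨P, hPQ⟩ := exists_under_closure h hc hgen Q
    refine ⟨P, hPQ, ?_⟩
    haveI : @Module.Finite k (IsLocalRing.ResidueField P.O) _ _ Algebra.toModule := h.finite_residueField P
    refine finrank_eq_one (1 : IsLocalRing.ResidueField P.O) one_ne_zero fun w => ?_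
    obtain ⟨xO, rfl⟩ := IsLocalRing.residue_surjective w
    set p := minpoly k (IsLocalRing.residue P.O xO) with hp
    have hpmon : p.Monic := minpoly.monic (IsIntegral.of_finite k _)
    have h1 : P.1 (aeval (xO : K) p) < 1 := by
      have hev : IsLocalRing.residue P.O (aeval xO p) = 0 := by
        rw [show IsLocalRing.residue P.O (aeval xO p) = aeval (IsLocalRing.residue P.O xO) p from
          (aeval_algHom_apply ({ IsLocalRing.residue P.O with commutes' := fun _ => rfl } :
            P.O →ₐ[k] IsLocalRing.ResidueField P.O) xO p).symm]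
        exact minpoly.aeval _ _
      rw [residue_eq_zero_iff] at hev
      rwa [show ((aeval xO p : P.O) : K) = aeval (xO : K) p from
        (aeval_algHom_apply (inclAlg P) xO p).symm] at hev
    have h2 : Q.1 (((p.map (algebraMap k kb)).map (algebraMap kb Kb)).eval (algebraMap K Kb (xO : K))) < 1 := by
      have : ((p.map (algebraMap k kb)).map (algebraMap kb Kb)) = (p.map (algebraMap k K)).map (algebraMap K Kb) := by
        rw [Polynomial.map_map, Polynomial.map_map]
        congr 1
        exact RingHom.ext fun c => (hc c).symm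
      rw [this, eval_map, eval₂_map, ← hom_eval₂, ← aeval_def]
      exact (val_lt_one_iff_of_le_iff hPQ _).2 h1
    have hspl := prod_multiset_X_sub_C_of_monic_of_roots_card_eq (hpmon.map (algebraMap k kb))
      ((IsAlgClosed.splits (p.map (algebraMap k kb))).natDegree_eq_card_roots.symm)
    rw [← hspl, Polynomial.map_multiset_prod, eval_multiset_prod, Multiset.map_map, Multiset.map_map] at h2
    have key : ∀ m : Multiset kb, Q.1 (m.map fun r => algebraMap K Kb (xO : K) - algebraMap kb Kb r).prod < 1 →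
        ∃ r, Q.1 (algebraMap K Kb (xO : K) - algebraMap kb Kb r) < 1 := by
      intro m
      induction m using Multiset.induction_on with
      | empty => simp
      | cons a m ih =>
        intro hm
        rw [Multiset.map_cons, Multiset.prod_cons, map_mul] at hm
        by_contra hne
        push Not at hne
        exact not_le.2 hm (one_le_mul (hne a) (not_lt.1 fun hlt => by
          obtain ⟨r, hr⟩ := ih hlt
          exact not_le.2 hr (hne r)))
    obtain ⟨r, hr⟩ := key _ (by
      simpa [Function.comp_def] using h2)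
    have hFr := (hfix _).2 hr
    rw [map_sub, hF1, hF2] at hFr
    have hpr : Q.1 (algebraMap K Kb (xO : K) ^ q - algebraMap kb Kb r ^ q) < 1 := by
      obtain ⟨d, hd⟩ := sub_dvd_pow_sub_pow (algebraMap K Kb (xO : K)) (algebraMap kb Kb r) q
      rw [← (Commute.all _ _).geom_sum₂_mul, map_mul]
      refine lt_of_le_of_lt (mul_le_of_le_one_left' (Q.1.map_sum_le fun i _ => ?_)) hr
      rw [map_mul, map_pow, map_pow]
      exact mul_le_one' (pow_le_one' ((hPQ _).2 xO.2) _) (pow_le_one' (Q.2.1 r) _)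
    have hrq : r ^ q = r := by
      by_contra hne
      have h3 := val_const Q (sub_ne_zero.2 hne)
      have h4 := Q.1.map_sub_lt hFr hpr
      rw [← map_pow (algebraMap kb Kb), sub_sub_sub_cancel_left, ← map_sub, h3] at h4
      exact lt_irrefl _ h4
    obtain ⟨a, rfl⟩ := mem_range_of_pow_card_eq hrq
    refine ⟨a, ?_⟩
    rw [← hc, ← map_sub, val_lt_one_iff_of_le_iff hPQ] at hr
    have h5 : IsLocalRing.residue P.O (a • (1 : P.O)) = IsLocalRing.residue P.O xO := by
      rw [eq_comm, ← sub_eq_zero, ← map_sub, residue_eq_zero_iff, AddSubgroupClass.coe_sub, coe_smul_O,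
        OneMemClass.coe_one, Algebra.smul_def, mul_one]
      exact hr
    rw [residue_smul, map_one] at h5
    exact h5
  · rintro ⟨P, hPQ, hdeg⟩ z
    have hres : ∀ a : K, P.1 a ≤ 1 → ∃ c : k, P.1 (a - algebraMap k K c) < 1 := by
      intro a ha
      obtain ⟨c, hc'⟩ := exists_smul_eq_of_finrank_eq_one hdeg (one_ne_zero (α := IsLocalRing.ResidueField P.O))
        (IsLocalRing.residue P.O ⟨a, ha⟩)
      refine ⟨c, ?_⟩
      have h1 : IsLocalRing.residue P.O (⟨a, ha⟩ - c • 1) = 0 := by
        rw [map_sub, residue_smul, map_one]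
        exact sub_eq_zero.2 hc'.symm
      rw [residue_eq_zero_iff, AddSubgroupClass.coe_sub, coe_smul_O, OneMemClass.coe_one, Algebra.smul_def,
        mul_one] at h1
      exact h1
    let b := Module.Basis.ofVectorSpace k kb
    obtain ⟨s, x, rfl⟩ := exists_finsupp_eq_sum hc hgen b z
    rw [map_sum, Finset.sum_congr rfl fun i _ => show F (algebraMap K Kb (x i) * algebraMap kb Kb (b i)) =
        algebraMap K Kb (x i ^ q) * algebraMap kb Kb (b i) by rw [map_mul, hF1, hF2, map_pow],
      sum_lt_one_iff hc hPQ hres b.linearIndependent, sum_lt_one_iff hc hPQ hres b.linearIndependent]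
    refine forall₂_congr fun i _ => ?_
    rw [map_pow, pow_lt_one_iff_of_nonneg zero_le hq]

end Groth.Agent.FrobPlace28
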